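import Groth.Agent.FlatA.LocalCriterion
import Groth.Agent.FlatA.NilpotentFree
import Mathlib.RingTheory.Flat.EquationalCriterion
import Mathlib.LinearAlgebra.TensorProduct.Quotient
import Mathlib.LinearAlgebra.Basis.Basic

/-!
# Lifting bases along nilpotent ideals
-/

set_option autoImplicit false
universe u v w

open TensorProduct Function

namespace K61.BasisNil

variable {R : Type u} [CommRing R] {M : Type v} [AddCommGroup M] [Module R M]

/-- Elements of `IM` as sums over the images: kernel of `M → R/I ⊗ M`. -/
theorem mem_smul_of_tmul_eq_zero (I : Ideal R) (m : M) (h : (1 : R ⧸ I) ⊗ₜ[R] m = 0) :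
    m ∈ I • (⊤ : Submodule R M) := by
  have h1 := congrArg (TensorProduct.quotTensorEquivQuotSMul M I) h
  rw [map_zero, TensorProduct.quotTensorEquivQuotSMul_mk_one_tmul] at h1
  exact (Submodule.Quotient.mk_eq_zero _).mp h1

/-- Lifts of a generating family modulo a nilpotent ideal generate. -/
theorem span_eq_top (I : Ideal R) (hI : IsNilpotent I) {A : Type w} (x : A → M)
    (hsp : Submodule.span (R ⧸ I) (Set.range fun a => (1 : R ⧸ I) ⊗ₜ[R] x a) = ⊤) :
    Submodule.span R (Set.range x) = ⊤ := by
  apply Groth.Agent.FlatA.NilpotentFree.eq_top_of_isNilpotent I hI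
  rw [eq_top_iff]
  intro m _
  have h1 : (1 : R ⧸ I) ⊗ₜ[R] m ∈
      Submodule.span (R ⧸ I) (Set.range fun a => (1 : R ⧸ I) ⊗ₜ[R] x a) := by
    rw [hsp]; trivial
  rw [← Submodule.restrictScalars_mem R, Submodule.restrictScalars_span R (R ⧸ I)
    Ideal.Quotient.mk_surjective] at h1
  have h2 : TensorProduct.mk R (R ⧸ I) M 1 m ∈
      (Submodule.span R (Set.range x)).map (TensorProduct.mk R (R ⧸ I) M 1) := by
    rw [Submodule.map_span, ← Set.range_comp]
    exact h1
  obtain ⟨y, hy, hy2⟩ := h2
  have h3 : m - y ∈ I • (⊤ : Submodule R M) := by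
    apply mem_smul_of_tmul_eq_zero
    rw [TensorProduct.tmul_sub]
    exact sub_eq_zero.mpr hy2.symm
  have : m = y + (m - y) := by abel
  rw [this]
  exact Submodule.add_mem_sup hy h3

/-- For `M` flat, `K = ker (F → M)`, `IF ∩ K ⊆ IK` (`F` free). -/
theorem mem_smul_ker [Module.Flat R M] {A : Type w} (x : A → M) (I : Ideal R)
    (hsp : Submodule.span R (Set.range x) = ⊤) (k : A →₀ R)
    (hk : k ∈ LinearMap.ker (Finsupp.linearCombination R x)) (hkI : ∀ a, k a ∈ I) :
    k ∈ I • LinearMap.ker (Finsupp.linearCombination R x) := by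
  classical
  let p := Finsupp.linearCombination R x
  have hp : Surjective p := by
    rw [← LinearMap.range_eq_top, Finsupp.range_linearCombination, hsp]
  -- the relation `∑ k_a x_a = 0` indexed by the support
  let s := k.support
  have hrel : ∑ a : s, k a • x a = 0 := by
    have := (LinearMap.mem_ker.mp hk)
    rw [Finsupp.linearCombination_apply, Finsupp.sum] at this
    rw [← this]
    exact Finset.sum_coe_sort s (fun a => k a • x a)
  obtain ⟨κ, c, y, hxy, hc⟩ := Module.Flat.isTrivialRelation_of_sum_smul_eq_zero hrel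
  choose z hz using fun j => hp (y j)
  let w : s → (A →₀ R) := fun a => Finsupp.single (a : A) 1 - ∑ j, c a j • z j
  have hw : ∀ a, w a ∈ LinearMap.ker p := by
    intro a
    rw [LinearMap.mem_ker, map_sub, map_sum]
    simp only [map_smul, hz]
    rw [Finsupp.linearCombination_single, one_smul]
    exact sub_eq_zero.mpr (hxy a)
  have hsum : k = ∑ a : s, k a • w a := by
    have h1 : ∑ a : s, k a • w a = ∑ a : s, k a • Finsupp.single (a : A) (1 : R) -
        ∑ j, (∑ a : s, k a * c a j) • z j := by
      simp only [w, smul_sub, Finset.sum_sub_distrib]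
      congr 1
      simp_rw [Finset.smul_sum, smul_smul]
      rw [Finset.sum_comm]
      exact Finset.sum_congr rfl (fun j _ => (Finset.sum_smul).symm)
    have h2 : ∑ j, (∑ a : s, k a * c a j) • z j = 0 := by
      refine Finset.sum_eq_zero (fun j _ => ?_)
      have := hc j
      simp only at this
      rw [this, zero_smul]
    have h3 : ∑ a : s, k a • Finsupp.single (a : A) (1 : R) = k := by
      have h4 : ∑ a : s, k a • Finsupp.single (a : A) (1 : R) =
          ∑ a ∈ s, Finsupp.single a (k a) := by
        rw [← Finset.sum_coe_sort s (fun a => Finsupp.single a (k a))]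
        exact Finset.sum_congr rfl (fun a _ => by rw [Finsupp.smul_single, smul_eq_mul, mul_one])
      rw [h4]
      exact Finsupp.sum_single k
    rw [h1, h2, h3, sub_zero]
  rw [hsum]
  exact Submodule.sum_mem _ (fun a _ => Submodule.smul_mem_smul (hkI a) (hw a))

/-- A family which is linearly independent modulo a nilpotent ideal and spans is linearly independent,
if the module is flat. -/
theorem linearIndependent [Module.Flat R M] (I : Ideal R) (hI : IsNilpotent I) {A : Type w}
    (x : A → M) (hli : LinearIndependent (R ⧸ I) (fun a => (1 : R ⧸ I) ⊗ₜ[R] x a))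
    (hsp : Submodule.span R (Set.range x) = ⊤) : LinearIndependent R x := by
  rw [linearIndependent_iff_ker]
  refine Groth.Agent.FlatA.NilpotentFree.eq_bot_of_isNilpotent I hI _ ?_
  intro k hk
  refine mem_smul_ker x I hsp k hk ?_
  -- all coefficients lie in `I`
  have h0 : ∑ a ∈ k.support, (Ideal.Quotient.mk I (k a)) • ((1 : R ⧸ I) ⊗ₜ[R] x a) = 0 := by
    have h1 := (LinearMap.mem_ker.mp hk)
    rw [Finsupp.linearCombination_apply, Finsupp.sum] at h1
    have h2 : (1 : R ⧸ I) ⊗ₜ[R] (∑ a ∈ k.support, k a • x a) = 0 := by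
      rw [h1, TensorProduct.tmul_zero]
    rw [TensorProduct.tmul_sum] at h2
    rw [← h2]
    refine Finset.sum_congr rfl (fun a _ => ?_)
    rw [TensorProduct.tmul_smul, TensorProduct.smul_tmul', TensorProduct.smul_tmul']
    congr 1
  have h3 := linearIndependent_iff'.mp hli k.support (fun a => Ideal.Quotient.mk I (k a)) h0
  intro a
  by_cases ha : a ∈ k.support
  · exact Ideal.Quotient.eq_zero_iff_mem.mp (h3 a ha)
  · rw [Finsupp.notMem_support_iff.mp ha]
    exact I.zero_mem

end K61.BasisNil
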