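import Mathlib.Algebra.Colimit.Module
import Mathlib.Algebra.Module.FinitePresentation
import Mathlib.LinearAlgebra.Finsupp.Supported
import Mathlib.LinearAlgebra.Finsupp.LinearCombination
import Mathlib.Algebra.Module.Projective

/-!
# Every module is a direct limit of finitely presented modules
-/

set_option autoImplicit false
universe u v

namespace K61.ColimFP

variable {R : Type u} [CommRing R] {M : Type u} [AddCommGroup M] [Module R M]
  {F : Type u} [AddCommGroup F] [Module R F] {α : Type u}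

/-- Indices: a finite set of generators and finitely many relations among them. -/
def Idx (π : F →ₗ[R] M) (Sp : Finset α → Submodule R F) : Type u :=
  {p : Finset α × Submodule R F // p.2.FG ∧ p.2 ≤ LinearMap.ker π ∧ p.2 ≤ Sp p.1}

instance (π : F →ₗ[R] M) (Sp : Finset α → Submodule R F) : PartialOrder (Idx π Sp) :=
  inferInstanceAs (PartialOrder (Subtype _))

instance (π : F →ₗ[R] M) (Sp : Finset α → Submodule R F) : Nonempty (Idx π Sp) :=
  ⟨⟨(∅, ⊥), Submodule.fg_bot, bot_le, bot_le⟩⟩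

theorem isDirected (π : F →ₗ[R] M) (Sp : Finset α → Submodule R F) (hmono : Monotone Sp) :
    IsDirected (Idx π Sp) (· ≤ ·) := ⟨fun p q => by
  classical
  refine ⟨⟨(p.1.1 ∪ q.1.1, p.1.2 ⊔ q.1.2), p.2.1.sup q.2.1, sup_le p.2.2.1 q.2.2.1,
    sup_le (p.2.2.2.trans ?_) (q.2.2.2.trans ?_)⟩, ?_, ?_⟩
  · exact hmono Finset.subset_union_left
  · exact hmono Finset.subset_union_right
  · exact ⟨Finset.subset_union_left, le_sup_left⟩
  · exact ⟨Finset.subset_union_right, le_sup_right⟩⟩

variable (π : F →ₗ[R] M) (Sp : Finset α → Submodule R F)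

/-- The finitely presented module of an index. -/
abbrev G (p : Idx π Sp) : Type u := Sp p.1.1 ⧸ (p.1.2.comap (Sp p.1.1).subtype)

theorem fp (hfp : ∀ s, ∃ (κ : Type u) (_ : Fintype κ), Nonempty ((κ → R) ≃ₗ[R] Sp s))
    (p : Idx π Sp) : Module.FinitePresentation R (G π Sp p) := by
  obtain ⟨κ, _, ⟨e⟩⟩ := hfp p.1.1
  have h1 : Module.FinitePresentation R (Sp p.1.1) := Module.FinitePresentation.of_equiv e
  refine Module.finitePresentation_of_surjective (Submodule.mkQ _) (Submodule.mkQ_surjective _) ?_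
  rw [Submodule.ker_mkQ]
  refine Submodule.fg_of_fg_map_injective _ (Submodule.subtype_injective _) ?_
  rw [Submodule.map_comap_subtype, inf_eq_right.mpr p.2.2.2]
  exact p.2.1

/-- The transition maps. -/
def f (hmono : Monotone Sp) (p q : Idx π Sp) (h : p ≤ q) : G π Sp p →ₗ[R] G π Sp q :=
  Submodule.mapQ _ _ (Submodule.inclusion (hmono h.1)) (by
    intro x hx
    exact h.2 hx)

theorem f_mk (hmono : Monotone Sp) (p q : Idx π Sp) (h : p ≤ q) (x : Sp p.1.1) :
    f π Sp hmono p q h (Submodule.Quotient.mk x) = Submodule.Quotient.mk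
      (⟨x.1, hmono h.1 x.2⟩) := rfl

theorem directedSystem (hmono : Monotone Sp) :
    DirectedSystem (G π Sp) fun i j h => f π Sp hmono i j h where
  map_self := by
    intro p x
    obtain ⟨x, rfl⟩ := Submodule.Quotient.mk_surjective _ x
    rw [f_mk]
  map_map := by
    intro k j i hij hjk x
    obtain ⟨x, rfl⟩ := Submodule.Quotient.mk_surjective _ x
    rw [f_mk, f_mk, f_mk]

/-- The maps to `M`. -/
def g (p : Idx π Sp) : G π Sp p →ₗ[R] M :=
  Submodule.liftQ _ (π ∘ₗ (Sp p.1.1).subtype) (by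
    intro x hx
    exact p.2.2.1 hx)

theorem g_mk (p : Idx π Sp) (x : Sp p.1.1) : g π Sp p (Submodule.Quotient.mk x) = π x.1 := rfl

theorem g_f (hmono : Monotone Sp) (p q : Idx π Sp) (h : p ≤ q) (x : G π Sp p) :
    g π Sp q (f π Sp hmono p q h x) = g π Sp p x := by
  obtain ⟨x, rfl⟩ := Submodule.Quotient.mk_surjective _ x
  rw [f_mk, g_mk, g_mk]

theorem exists_iso [DecidableEq (Idx π Sp)] (hmono : Monotone Sp) (hπ : Function.Surjective π)
    (hall : ∀ x : F, ∃ s, x ∈ Sp s) :
    Nonempty (Module.DirectLimit (G π Sp) (f π Sp hmono) ≃ₗ[R] M) := by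
  classical
  have := isDirected π Sp hmono
  have := directedSystem π Sp hmono
  let Φ := Module.DirectLimit.lift R (Idx π Sp) (G π Sp) (f π Sp hmono) (g π Sp) (g_f π Sp hmono)
  refine ⟨LinearEquiv.ofBijective Φ ⟨?_, ?_⟩⟩
  · rw [injective_iff_map_eq_zero]
    intro z hz
    obtain ⟨p, x, rfl⟩ := Module.DirectLimit.exists_of z
    rw [Module.DirectLimit.lift_of] at hz
    obtain ⟨x, rfl⟩ := Submodule.Quotient.mk_surjective _ x
    rw [g_mk] at hz
    let q : Idx π Sp := ⟨(p.1.1, p.1.2 ⊔ Submodule.span R {x.1}), by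
      refine ⟨p.2.1.sup (Submodule.fg_span_singleton _), sup_le p.2.2.1 ?_, sup_le p.2.2.2 ?_⟩
      · rw [Submodule.span_singleton_le_iff_mem]
        exact hz
      · rw [Submodule.span_singleton_le_iff_mem]
        exact x.2⟩
    have hpq : p ≤ q := ⟨le_rfl, le_sup_left⟩
    rw [← Module.DirectLimit.of_f (hij := hpq), f_mk]
    have : (Submodule.Quotient.mk (⟨x.1, hmono hpq.1 x.2⟩ : Sp q.1.1) : G π Sp q) = 0 := by
      rw [Submodule.Quotient.mk_eq_zero]
      change x.1 ∈ p.1.2 ⊔ Submodule.span R {x.1}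
      exact (le_sup_right : _ ≤ p.1.2 ⊔ Submodule.span R {x.1}) (Submodule.mem_span_singleton_self _)
    rw [this, map_zero]
  · intro m
    obtain ⟨x, rfl⟩ := hπ m
    obtain ⟨s, hs⟩ := hall x
    let p : Idx π Sp := ⟨(s, ⊥), Submodule.fg_bot, bot_le, bot_le⟩
    refine ⟨Module.DirectLimit.of R (Idx π Sp) (G π Sp) (f π Sp hmono) p
      (Submodule.Quotient.mk ⟨x, hs⟩), ?_⟩
    rw [Module.DirectLimit.lift_of, g_mk]

theorem exists_directLimit_of (hmono : Monotone Sp) (hπ : Function.Surjective π)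
    (hfp : ∀ s, ∃ (κ : Type u) (_ : Fintype κ), Nonempty ((κ → R) ≃ₗ[R] Sp s))
    (hall : ∀ x : F, ∃ s, x ∈ Sp s) : ∃ (ι : Type u) (_ : Preorder ι) (_ : IsDirected ι (· ≤ ·))
    (_ : Nonempty ι) (_ : DecidableEq ι) (G : ι → Type u) (_ : ∀ i, AddCommGroup (G i))
    (_ : ∀ i, Module R (G i)) (f : ∀ i j, i ≤ j → G i →ₗ[R] G j)
    (_ : DirectedSystem G fun i j h => f i j h), (∀ i, Module.FinitePresentation R (G i)) ∧
      Nonempty (Module.DirectLimit G f ≃ₗ[R] M) := by
  classical
  exact ⟨Idx π Sp, inferInstance, isDirected π Sp hmono, inferInstance, inferInstance, G π Sp,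
    inferInstance, inferInstance, f π Sp hmono, directedSystem π Sp hmono, fp π Sp hfp,
    exists_iso π Sp hmono hπ hall⟩

variable (R M)

/-- Every module is a direct limit of finitely presented modules. -/
theorem exists_directLimit : ∃ (ι : Type u) (_ : Preorder ι) (_ : IsDirected ι (· ≤ ·))
    (_ : Nonempty ι) (_ : DecidableEq ι) (G : ι → Type u) (_ : ∀ i, AddCommGroup (G i))
    (_ : ∀ i, Module R (G i)) (f : ∀ i j, i ≤ j → G i →ₗ[R] G j)
    (_ : DirectedSystem G fun i j h => f i j h), (∀ i, Module.FinitePresentation R (G i)) ∧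
      Nonempty (Module.DirectLimit G f ≃ₗ[R] M) := by
  classical
  let π : (M →₀ R) →ₗ[R] M := Finsupp.linearCombination R (id : M → M)
  have hπ : Function.Surjective π := fun m => ⟨Finsupp.single m 1, by simp [π]⟩
  let Sp : Finset M → Submodule R (M →₀ R) := fun s => Finsupp.supported R R (s : Set M)
  have hmono : Monotone Sp := fun s t h => Finsupp.supported_mono (by exact_mod_cast h)
  have hfp : ∀ s, ∃ (κ : Type u) (_ : Fintype κ), Nonempty ((κ → R) ≃ₗ[R] Sp s) := fun s =>
    ⟨s, inferInstance, ⟨((Finsupp.supportedEquivFinsupp (R := R) (M := R) (s : Set M)).trans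
      (Finsupp.linearEquivFunOnFinite R R s)).symm⟩⟩
  have hall : ∀ x : M →₀ R, ∃ s, x ∈ Sp s := fun x => ⟨x.support, by
    rw [Finsupp.mem_supported]⟩
  exact exists_directLimit_of π Sp hmono hπ hfp hall

end K61.ColimFP
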