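import Groth.Agent.FlatA.LocalCriterion
import Groth.Agent.FlatA.NilpotentFree
import Mathlib.RingTheory.Flat.EquationalCriterion
import Mathlib.RingTheory.Flat.Stability
import Mathlib.RingTheory.TensorProduct.Free
import Mathlib.LinearAlgebra.TensorProduct.Quotient

/-!
# Flatness and nilpotent ideals
-/

set_option autoImplicit false
universe u v w

open TensorProduct Function

namespace K61.FlatNil

open Groth.Agent.FlatA.TorOne Groth.Agent.FlatA.LocalCriterion

/-- Flatness of `S ⊗ M` over `S` passes to `S`-algebras `T`. -/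
theorem flat_tower (R : Type u) (S : Type u) (T : Type u) [CommRing R] [CommRing S] [CommRing T]
    [Algebra R S] [Algebra S T] [Algebra R T] [IsScalarTower R S T] (M : Type u) [AddCommGroup M]
    [Module R M] [Module.Flat S (S ⊗[R] M)] : Module.Flat T (T ⊗[R] M) :=
  Module.Flat.of_linearEquiv (TensorProduct.AlgebraTensorModule.cancelBaseChange R S T T M).symm

/-- `T ⊗[S] (S ⊗[R] M)` is flat over `T` if `T ⊗[R] M` is. -/
theorem flat_cancel (R : Type u) (S : Type u) (T : Type u) [CommRing R] [CommRing S] [CommRing T]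
    [Algebra R S] [Algebra S T] [Algebra R T] [IsScalarTower R S T] (M : Type u) [AddCommGroup M]
    [Module R M] [Module.Flat T (T ⊗[R] M)] : Module.Flat T (T ⊗[S] (S ⊗[R] M)) :=
  Module.Flat.of_linearEquiv (TensorProduct.AlgebraTensorModule.cancelBaseChange R S T T M)

/-- `M/IⁿM` is flat over `R/Iⁿ` if `M/IM` is flat over `R/I` and `Tor₁(R/I, M) = 0`. -/
theorem flat_pow {R : Type u} [CommRing R] (I : Ideal R) (M : Type u)
    [AddCommGroup M] [Module R M] [Module.Flat (R ⧸ I) ((R ⧸ I) ⊗[R] M)]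
    (htor : Function.Injective ((Submodule.subtype I).rTensor M)) (n : ℕ) :
    Module.Flat (R ⧸ I ^ n) ((R ⧸ I ^ n) ⊗[R] M) := by
  rw [Module.Flat.iff_rTensor_injective']
  intro J
  have h1 := injective_of_torVan (M := M) I (TorVan.of_submodule htor) n (J.restrictScalars R)
  let e₁ := TensorProduct.AlgebraTensorModule.cancelBaseChange R (R ⧸ I ^ n) (R ⧸ I ^ n) J M
  let e₂ := TensorProduct.AlgebraTensorModule.cancelBaseChange R (R ⧸ I ^ n) (R ⧸ I ^ n)
    (R ⧸ I ^ n) M
  have key : ∀ x, (J.subtype.restrictScalars R).rTensor M (e₁ x) =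
      e₂ (J.subtype.rTensor ((R ⧸ I ^ n) ⊗[R] M) x) := by
    intro x
    induction x using TensorProduct.induction_on with
    | zero => simp
    | tmul k m =>
      induction m using TensorProduct.induction_on with
      | zero => simp
      | tmul a m => simp [e₁, e₂]
      | add x y hx hy => rw [TensorProduct.tmul_add, map_add, map_add, hx, hy]; simp only [map_add]
    | add x y hx hy => rw [map_add, map_add, hx, hy]; simp only [map_add]
  intro x y hxy
  apply e₁.injective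
  apply h1
  have hx := key x
  have hy := key y
  rw [hxy, ← hy] at hx
  exact hx

/-- Square zero step: `R → R'` injective, `J² = 0`, `M/JM` flat over `R/J`, `R' ⊗ M` flat over `R'`. -/
theorem flat_of_sq_zero {R R' : Type u} [CommRing R] [CommRing R'] [Algebra R R']
    (hinj : Function.Injective (algebraMap R R')) (J : Ideal R) (hJ : J * J = ⊥)
    (M : Type u) [AddCommGroup M] [Module R M] [Module.Flat (R ⧸ J) ((R ⧸ J) ⊗[R] M)]
    [Module.Flat R' (R' ⊗[R] M)] : Module.Flat R M := by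
  refine flat_of_isNilpotent J ⟨2, by rw [pow_two, hJ]; rfl⟩ ?_ inferInstance
  have hmul : ∀ a ∈ J, ∀ b ∈ J, a * b = 0 := by
    intro a ha b hb
    have : a * b ∈ J * J := Ideal.mul_mem_mul ha hb
    rw [hJ] at this
    exact this
  let J' : Ideal R' := J.map (algebraMap R R')
  have hmul' : ∀ a ∈ J, ∀ b ∈ J', algebraMap R R' a * b = 0 := by
    intro a ha b hb
    refine Submodule.span_induction ?_ ?_ ?_ ?_ hb
    · rintro _ ⟨c, hc, rfl⟩
      rw [← map_mul, hmul a ha c hc, map_zero]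
    · rw [mul_zero]
    · intro x y _ _ hx hy
      rw [mul_add, hx, hy, add_zero]
    · intro r x _ hx
      rw [smul_eq_mul, mul_left_comm, hx, mul_zero]
  have t1 : Module.IsTorsionBySet R J J := by
    rintro ⟨x, hx⟩ ⟨a, ha⟩
    exact Subtype.ext (hmul a ha x hx)
  have t2 : Module.IsTorsionBySet R J' J := by
    rintro ⟨x, hx⟩ ⟨a, ha⟩
    refine Subtype.ext ?_
    change a • x = 0
    rw [Algebra.smul_def]
    exact hmul' a ha x hx
  let _ := t1.module
  let _ := t2.module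
  have : IsScalarTower R (R ⧸ J) J := ⟨fun a b x => by
    obtain ⟨b, rfl⟩ := Ideal.Quotient.mk_surjective b
    rw [← Ideal.Quotient.mk_eq_mk, ← Submodule.Quotient.mk_smul, Ideal.Quotient.mk_eq_mk,
      Ideal.Quotient.mk_eq_mk]
    rw [Module.IsTorsionBySet.mk_smul, Module.IsTorsionBySet.mk_smul, smul_smul, smul_eq_mul]⟩
  have : IsScalarTower R (R ⧸ J) J' := ⟨fun a b x => by
    obtain ⟨b, rfl⟩ := Ideal.Quotient.mk_surjective b
    rw [← Ideal.Quotient.mk_eq_mk, ← Submodule.Quotient.mk_smul, Ideal.Quotient.mk_eq_mk,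
      Ideal.Quotient.mk_eq_mk]
    rw [Module.IsTorsionBySet.mk_smul, Module.IsTorsionBySet.mk_smul, smul_smul, smul_eq_mul]⟩
  let ι₀ : J → J' := fun x => ⟨algebraMap R R' x, Ideal.mem_map_of_mem _ x.2⟩
  let ι : J →ₗ[R ⧸ J] J' :=
    { toFun := ι₀
      map_add' := fun x y => Subtype.ext (map_add (algebraMap R R') (x : R) (y : R))
      map_smul' := fun b x => by
        obtain ⟨b, rfl⟩ := Ideal.Quotient.mk_surjective b
        rw [RingHom.id_apply, Module.IsTorsionBySet.mk_smul, Module.IsTorsionBySet.mk_smul]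
        refine Subtype.ext ?_
        change algebraMap R R' (b * (x : R)) = b • algebraMap R R' (x : R)
        rw [map_mul, Algebra.smul_def] }
  have hι : Injective ι := fun x y hxy => Subtype.ext (hinj (congrArg Subtype.val hxy))
  have h1 : Injective ((ι.restrictScalars R).rTensor M) :=
    rTensor_injective_of_flat_baseChange (R := R) (M := M) (R ⧸ J) ι hι
  have h2 : Injective ((J'.subtype.restrictScalars R).rTensor M) :=
    rTensor_injective_of_flat_baseChange (R := R) (M := M) R' J'.subtype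
      (Submodule.subtype_injective _)
  have h3 : (Algebra.linearMap R R') ∘ₗ (Submodule.subtype J) =
      (J'.subtype.restrictScalars R) ∘ₗ (ι.restrictScalars R) := by
    ext x
    rfl
  have h4 : Injective (((Algebra.linearMap R R') ∘ₗ (Submodule.subtype J)).rTensor M) := by
    rw [h3, LinearMap.rTensor_comp]
    exact h2.comp h1
  rw [LinearMap.rTensor_comp] at h4
  exact Injective.of_comp h4

/-- `R → R'` injective, `I` nilpotent, `M/IM` flat over `R/I`, `R' ⊗ M` flat over `R'`. -/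
theorem flat_of_injective (n : ℕ) : ∀ {R R' : Type u} [CommRing R] [CommRing R'] [Algebra R R']
    (_ : Function.Injective (algebraMap R R')) (I : Ideal R) (_ : I ^ n = ⊥)
    (M : Type u) [AddCommGroup M] [Module R M] [Module.Flat (R ⧸ I) ((R ⧸ I) ⊗[R] M)]
    [Module.Flat R' (R' ⊗[R] M)], Module.Flat R M := by
  induction n with
  | zero =>
    intro R R' _ _ _ hinj I hI M _ _ hfl1 hfl2
    refine flat_of_isNilpotent I ⟨0, by rw [hI]; rfl⟩ ?_ hfl1
    have : Subsingleton R := by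
      rw [pow_zero, Ideal.one_eq_top] at hI
      refine subsingleton_of_zero_eq_one ?_
      have h1 : (1 : R) ∈ (⊥ : Ideal R) := by rw [← hI]; trivial
      exact (Submodule.mem_bot R |>.mp h1).symm
    have : Subsingleton (I ⊗[R] M) := Module.subsingleton R _
    exact Function.injective_of_subsingleton _
  | succ n ih =>
    intro R R' _ _ _ hinj I hI M _ _ hfl1 hfl2
    rcases Nat.eq_zero_or_pos n with rfl | hn
    · -- `I = 0`
      rw [zero_add, pow_one] at hI
      refine flat_of_isNilpotent I ⟨1, by rw [pow_one, hI]; rfl⟩ ?_ hfl1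
      subst hI
      exact Function.injective_of_subsingleton _
    let I' : Ideal R' := I.map (algebraMap R R')
    let J : Ideal R := (I' ^ n).comap (algebraMap R R')
    have hI' : I' ^ (n + 1) = ⊥ := by
      rw [← Ideal.map_pow, hI, Ideal.map_bot]
    have hJJ : J * J = ⊥ := by
      rw [eq_bot_iff]
      refine Ideal.mul_le.mpr (fun a ha b hb => ?_)
      have h1 : algebraMap R R' (a * b) ∈ I' ^ n * I' ^ n := by
        rw [map_mul]
        exact Ideal.mul_mem_mul ha hb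
      rw [← pow_add] at h1
      have h2 : I' ^ (n + n) ≤ I' ^ (n + 1) := Ideal.pow_le_pow_right (by omega)
      have h3 := h2 h1
      rw [hI'] at h3
      have h4 : algebraMap R R' (a * b) = 0 := h3
      rw [Submodule.mem_bot]
      exact hinj (by rw [h4, map_zero])
    -- flatness over `R/J`
    have hflat : Module.Flat (R ⧸ J) ((R ⧸ J) ⊗[R] M) := by
      let φ : R ⧸ J →+* R' ⧸ I' ^ n := Ideal.quotientMap (I' ^ n) (algebraMap R R') le_rfl
      let _ : Algebra (R ⧸ J) (R' ⧸ I' ^ n) := φ.toAlgebra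
      have hφ : Function.Injective (algebraMap (R ⧸ J) (R' ⧸ I' ^ n)) :=
        Ideal.quotientMap_injective
      have : IsScalarTower R (R ⧸ J) (R' ⧸ I' ^ n) := IsScalarTower.of_algebraMap_eq (fun r => rfl)
      let Ibar : Ideal (R ⧸ J) := I.map (Ideal.Quotient.mk J)
      have hIbar : Ibar ^ n = ⊥ := by
        rw [← Ideal.map_pow, eq_bot_iff, Ideal.map_le_iff_le_comap]
        intro x hx
        rw [Ideal.mem_comap, Submodule.mem_bot, Ideal.Quotient.eq_zero_iff_mem, Ideal.mem_comap]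
        rw [← Ideal.map_pow]
        exact Ideal.mem_map_of_mem _ hx
      let ψ : R ⧸ I →+* (R ⧸ J) ⧸ Ibar :=
        Ideal.quotientMap Ibar (Ideal.Quotient.mk J) Ideal.le_comap_map
      let _ : Algebra (R ⧸ I) ((R ⧸ J) ⧸ Ibar) := ψ.toAlgebra
      have : IsScalarTower R (R ⧸ I) ((R ⧸ J) ⧸ Ibar) :=
        IsScalarTower.of_algebraMap_eq (fun r => rfl)
      have f1 : Module.Flat ((R ⧸ J) ⧸ Ibar) (((R ⧸ J) ⧸ Ibar) ⊗[R] M) :=
        flat_tower R (R ⧸ I) ((R ⧸ J) ⧸ Ibar) M
      have f2 : Module.Flat ((R ⧸ J) ⧸ Ibar) (((R ⧸ J) ⧸ Ibar) ⊗[R ⧸ J] ((R ⧸ J) ⊗[R] M)) :=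
        flat_cancel R (R ⧸ J) ((R ⧸ J) ⧸ Ibar) M
      have f3 : Module.Flat (R' ⧸ I' ^ n) ((R' ⧸ I' ^ n) ⊗[R] M) :=
        flat_tower R R' (R' ⧸ I' ^ n) M
      have f4 : Module.Flat (R' ⧸ I' ^ n) ((R' ⧸ I' ^ n) ⊗[R ⧸ J] ((R ⧸ J) ⊗[R] M)) :=
        flat_cancel R (R ⧸ J) (R' ⧸ I' ^ n) M
      exact ih hφ Ibar hIbar ((R ⧸ J) ⊗[R] M)
    exact flat_of_sq_zero hinj J hJJ M

/-- Let `φ : R → R'`, `M/IM` flat over `R/I` and `R' ⊗ M` flat over `R'`. With
`I₂ = φ⁻¹(I²R')`, `M/I₂M` is flat over `R/I₂`. -/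
theorem flat_comap_sq {R R' : Type u} [CommRing R] [CommRing R'] [Algebra R R']
    (I : Ideal R) (M : Type u) [AddCommGroup M] [Module R M]
    [Module.Flat (R ⧸ I) ((R ⧸ I) ⊗[R] M)] [Module.Flat R' (R' ⊗[R] M)] :
    Module.Flat (R ⧸ ((I ^ 2).map (algebraMap R R')).comap (algebraMap R R'))
      ((R ⧸ ((I ^ 2).map (algebraMap R R')).comap (algebraMap R R')) ⊗[R] M) := by
  let I'' : Ideal R' := (I ^ 2).map (algebraMap R R')
  let J : Ideal R := I''.comap (algebraMap R R')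
  change Module.Flat (R ⧸ J) ((R ⧸ J) ⊗[R] M)
  let φ : R ⧸ J →+* R' ⧸ I'' := Ideal.quotientMap I'' (algebraMap R R') le_rfl
  let _ : Algebra (R ⧸ J) (R' ⧸ I'') := φ.toAlgebra
  have hφ : Function.Injective (algebraMap (R ⧸ J) (R' ⧸ I'')) := Ideal.quotientMap_injective
  have : IsScalarTower R (R ⧸ J) (R' ⧸ I'') := IsScalarTower.of_algebraMap_eq (fun r => rfl)
  let Ibar : Ideal (R ⧸ J) := I.map (Ideal.Quotient.mk J)
  have hIbar : Ibar ^ 2 = ⊥ := by
    rw [← Ideal.map_pow, eq_bot_iff, Ideal.map_le_iff_le_comap]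
    intro x hx
    rw [Ideal.mem_comap, Submodule.mem_bot, Ideal.Quotient.eq_zero_iff_mem, Ideal.mem_comap]
    exact Ideal.mem_map_of_mem _ hx
  let ψ : R ⧸ I →+* (R ⧸ J) ⧸ Ibar :=
    Ideal.quotientMap Ibar (Ideal.Quotient.mk J) Ideal.le_comap_map
  let _ : Algebra (R ⧸ I) ((R ⧸ J) ⧸ Ibar) := ψ.toAlgebra
  have : IsScalarTower R (R ⧸ I) ((R ⧸ J) ⧸ Ibar) :=
    IsScalarTower.of_algebraMap_eq (fun r => rfl)
  have f1 : Module.Flat ((R ⧸ J) ⧸ Ibar) (((R ⧸ J) ⧸ Ibar) ⊗[R] M) :=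
    flat_tower R (R ⧸ I) ((R ⧸ J) ⧸ Ibar) M
  have f2 : Module.Flat ((R ⧸ J) ⧸ Ibar) (((R ⧸ J) ⧸ Ibar) ⊗[R ⧸ J] ((R ⧸ J) ⊗[R] M)) :=
    flat_cancel R (R ⧸ J) ((R ⧸ J) ⧸ Ibar) M
  have f3 : Module.Flat (R' ⧸ I'') ((R' ⧸ I'') ⊗[R] M) :=
    flat_tower R R' (R' ⧸ I'') M
  have f4 : Module.Flat (R' ⧸ I'') ((R' ⧸ I'') ⊗[R ⧸ J] ((R ⧸ J) ⊗[R] M)) :=
    flat_cancel R (R ⧸ J) (R' ⧸ I'') M
  exact flat_of_sq_zero hφ Ibar (by rw [← pow_two, hIbar]) ((R ⧸ J) ⊗[R] M)

end K61.FlatNil
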