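import Groth.Agent.CAlg.K61.ColimFP
import Mathlib.Algebra.Category.ModuleCat.Colimits
import Mathlib.Algebra.Category.ModuleCat.Limits
import Mathlib.CategoryTheory.Filtered.Basic
import Mathlib.CategoryTheory.Limits.Types.Filtered
import Mathlib.Algebra.Category.ModuleCat.FilteredColimits

/-!
# Finite generation and finite presentation through `Hom` and filtered colimits
-/

set_option autoImplicit false
universe u

open CategoryTheory CategoryTheory.Limits

namespace K61.HomColim

variable (R : Type u) [CommRing R] (N : Type u) [AddCommGroup N] [Module R N]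

/-- The diagram of quotients by finitely generated submodules. -/
def quotDiag : {K : Submodule R N // K.FG} ⥤ ModuleCat.{u} R where
  obj K := ModuleCat.of R (N ⧸ K.1)
  map {K L} h := ModuleCat.ofHom (Submodule.mapQ K.1 L.1 LinearMap.id (leOfHom h))
  map_id K := by
    ext x
    rfl
  map_comp f g := by
    ext x
    rfl

theorem isDirected : IsDirected {K : Submodule R N // K.FG} (· ≤ ·) :=
  ⟨fun K L => ⟨⟨K.1 ⊔ L.1, K.2.sup L.2⟩, (le_sup_left : K.1 ≤ K.1 ⊔ L.1),
    (le_sup_right : L.1 ≤ K.1 ⊔ L.1)⟩⟩

theorem finite_of_injective (h : ∀ (J : Type u) [SmallCategory J] [IsFiltered J]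
    (F : J ⥤ ModuleCat.{u} R),
    Function.Injective (colimit.post F (coyoneda.obj (Opposite.op (ModuleCat.of R N))))) :
    Module.Finite R N := by
  have := isDirected R N
  have : Nonempty {K : Submodule R N // K.FG} := ⟨⟨⊥, Submodule.fg_bot⟩⟩
  let F := quotDiag R N
  let j₀ : {K : Submodule R N // K.FG} := ⟨⊥, Submodule.fg_bot⟩
  let a : ModuleCat.of R N ⟶ F.obj j₀ := ModuleCat.ofHom (Submodule.mkQ _)
  have hinj := h _ F
  have key : ∀ (j : {K : Submodule R N // K.FG}) (b : ModuleCat.of R N ⟶ F.obj j),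
      colimit.post F (coyoneda.obj (Opposite.op (ModuleCat.of R N)))
        (colimit.ι (F ⋙ coyoneda.obj (Opposite.op (ModuleCat.of R N))) j b) =
        b ≫ colimit.ι F j := by
    intro j b
    have := ConcreteCategory.congr_hom (colimit.ι_post F
      (coyoneda.obj (Opposite.op (ModuleCat.of R N))) j) b
    exact this
  have h0 : a ≫ colimit.ι F j₀ = (0 : ModuleCat.of R N ⟶ F.obj j₀) ≫ colimit.ι F j₀ := by
    rw [zero_comp]
    ext n
    let j : {K : Submodule R N // K.FG} := ⟨Submodule.span R {n}, Submodule.fg_span_singleton n⟩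
    have hj : j₀ ≤ j := (bot_le : (⊥ : Submodule R N) ≤ _)
    rw [← colimit.w F (homOfLE hj)]
    have : (F.map (homOfLE hj)).hom (a.hom n) = 0 := by
      change Submodule.Quotient.mk n = 0
      rw [Submodule.Quotient.mk_eq_zero]
      exact Submodule.mem_span_singleton_self n
    change (colimit.ι F j).hom ((F.map (homOfLE hj)).hom (a.hom n)) = _
    rw [this, map_zero]
    rfl
  have h1 := hinj (by rw [key, key, h0] : colimit.post F
    (coyoneda.obj (Opposite.op (ModuleCat.of R N)))
      (colimit.ι (F ⋙ coyoneda.obj (Opposite.op (ModuleCat.of R N))) j₀ a) =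
      colimit.post F (coyoneda.obj (Opposite.op (ModuleCat.of R N)))
      (colimit.ι (F ⋙ coyoneda.obj (Opposite.op (ModuleCat.of R N))) j₀ (0 : _ ⟶ _)))
  obtain ⟨k, f, g, hfg⟩ := (Types.FilteredColimit.colimit_eq_iff _).mp h1
  have h2 : a ≫ F.map f = 0 := by
    have : a ≫ F.map f = (0 : ModuleCat.of R N ⟶ F.obj j₀) ≫ F.map g := hfg
    rw [this, zero_comp]
  refine ⟨?_⟩
  have h3 : (⊤ : Submodule R N) = k.1 := by
    rw [eq_comm, eq_top_iff]
    intro n _
    have h4 := LinearMap.congr_fun (congrArg ModuleCat.Hom.hom h2) n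
    exact (Submodule.Quotient.mk_eq_zero _).mp h4
  rw [h3]
  exact k.2

/-- A retract of a finitely presented module is finitely presented. -/
theorem fp_of_retract {P : Type u} [AddCommGroup P] [Module R P] [Module.FinitePresentation R P]
    (i : N →ₗ[R] P) (r : P →ₗ[R] N) (h : r ∘ₗ i = LinearMap.id) :
    Module.FinitePresentation R N := by
  have hr : ∀ n, r (i n) = n := fun n => LinearMap.congr_fun h n
  refine Module.finitePresentation_of_surjective r (fun n => ⟨i n, hr n⟩) ?_
  have : LinearMap.ker r = LinearMap.range (LinearMap.id - i ∘ₗ r) := by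
    apply le_antisymm
    · intro x hx
      refine ⟨x, ?_⟩
      have hx' : r x = 0 := hx
      simp [hx']
    · rintro _ ⟨x, rfl⟩
      simp [hr]
  rw [this, ← Submodule.map_top]
  exact Submodule.FG.map _ Module.Finite.fg_top

theorem fp_of_surjective (h : ∀ (J : Type u) [SmallCategory J] [IsFiltered J]
    (F : J ⥤ ModuleCat.{u} R),
    Function.Surjective (colimit.post F (coyoneda.obj (Opposite.op (ModuleCat.of R N))))) :
    Module.FinitePresentation R N := by
  obtain ⟨ι, _, _, _, _, G, _, _, f, _, hfp, ⟨e⟩⟩ := K61.ColimFP.exists_directLimit R N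
  let F := ModuleCat.directLimitDiagram G f
  let c := ModuleCat.directLimitCocone G f
  let hc : IsColimit c := ModuleCat.directLimitIsColimit G f
  let t : colimit F ≅ ModuleCat.of R N :=
    (IsColimit.coconePointUniqueUpToIso (colimit.isColimit F) hc) ≪≫ e.toModuleIso
  obtain ⟨x, hx⟩ := h _ F t.inv
  obtain ⟨j, a, rfl⟩ := Types.jointly_surjective' x
  have key : a ≫ colimit.ι F j = t.inv := by
    rw [← hx]
    exact (ConcreteCategory.congr_hom (colimit.ι_post F
      (coyoneda.obj (Opposite.op (ModuleCat.of R N))) j) a).symm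
  have h1 : a ≫ (colimit.ι F j ≫ t.hom) = 𝟙 _ := by
    rw [← Category.assoc, key, t.inv_hom_id]
  exact @fp_of_retract R _ N _ _ (G j) _ _ (hfp j) a.hom ((colimit.ι F j ≫ t.hom).hom)
    (congrArg ModuleCat.Hom.hom h1)

end K61.HomColim
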