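import Groth.Prelude.Def_W4stkalgebra1Int
import Mathlib.RingTheory.ReesAlgebra
import Mathlib.RingTheory.IntegralClosure.Algebra.Basic
import Mathlib.Algebra.Polynomial.Monic
import Mathlib.Algebra.Polynomial.Eval.Coeff

/-!
# Integral dependence over an ideal and the Rees algebra
-/

set_option autoImplicit false
universe u v

open Polynomial

namespace K61.IntIdeal

/-- Monic equations as sums. -/
theorem exists_monic_iff {A : Type u} {B : Type v} [CommRing A] [CommRing B] (φ : A →+* B) (x : B)
    (T : ℕ → ℕ → A → Prop) :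
    (∃ p : A[X], p.Monic ∧ (∀ j : ℕ, j < p.natDegree → T p.natDegree j (p.coeff j)) ∧
      eval₂ φ x p = 0) ↔
    ∃ (d : ℕ) (c : ℕ → A), (∀ j, j < d → T d j (c j)) ∧
      x ^ d + ∑ j ∈ Finset.range d, φ (c j) * x ^ j = 0 := by
  constructor
  · rintro ⟨p, hp, hT, h0⟩
    refine ⟨p.natDegree, p.coeff, hT, ?_⟩
    rw [eval₂_eq_sum_range, Finset.sum_range_succ, hp.coeff_natDegree, map_one, one_mul] at h0
    rw [add_comm]
    exact h0
  · rintro ⟨d, c, hT, h0⟩
    rcases subsingleton_or_nontrivial A with hA | hA
    · refine ⟨1, monic_one, ?_, ?_⟩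
      · intro j hj
        rw [natDegree_one] at hj
        omega
      · have : (1 : B) = 0 := by
          rw [← map_one φ, Subsingleton.elim (1 : A) 0, map_zero]
        rw [eval₂_one, this]
    · let q : A[X] := ∑ j ∈ Finset.range d, C (c j) * X ^ j
      have hq : q.degree < d := by
        refine lt_of_le_of_lt (degree_sum_le _ _) ?_
        refine (Finset.sup_lt_iff (WithBot.bot_lt_coe d)).mpr ?_
        intro j hj
        exact lt_of_le_of_lt (degree_C_mul_X_pow_le j (c j))
          (WithBot.coe_lt_coe.mpr (Finset.mem_range.mp hj))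
      have hmon : (X ^ d + q).Monic := monic_X_pow_add hq
      have hdeg : (X ^ d + q).natDegree = d := by
        apply natDegree_eq_of_degree_eq_some
        rw [degree_add_eq_left_of_degree_lt (by rwa [degree_X_pow]), degree_X_pow]
      have hcoeff : ∀ j, j < d → (X ^ d + q).coeff j = c j := by
        intro j hj
        rw [coeff_add, coeff_X_pow, if_neg (by omega), zero_add, finsetSum_coeff]
        rw [Finset.sum_eq_single j]
        · simp
        · intro b _ hb
          rw [coeff_C_mul, coeff_X_pow, if_neg (Ne.symm hb), mul_zero]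
        · intro h
          exact absurd (Finset.mem_range.mpr hj) h
      refine ⟨X ^ d + q, hmon, ?_, ?_⟩
      · intro j hj
        rw [hdeg] at hj ⊢
        rw [hcoeff j hj]
        exact hT j hj
      · rw [eval₂_add, eval₂_X_pow, eval₂_finsetSum, ← h0]
        congr 1
        refine Finset.sum_congr rfl (fun j _ => ?_)
        rw [eval₂_mul, eval₂_C, eval₂_X_pow]

theorem isIntegralOverIdeal_iff {R S : Type u} [CommRing R] [CommRing S] [Algebra R S] (I : Ideal R)
    (s : S) : W4stkalgebra1.IsIntegralOverIdeal I s ↔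
      ∃ (d : ℕ) (c : ℕ → R), (∀ j, j < d → c j ∈ I ^ (d - j)) ∧
        s ^ d + ∑ j ∈ Finset.range d, algebraMap R S (c j) * s ^ j = 0 :=
  exists_monic_iff (algebraMap R S) s (fun d j a => a ∈ I ^ (d - j))

theorem isIntegralElem_iff {A : Type u} {B : Type v} [CommRing A] [CommRing B] (φ : A →+* B)
    (x : B) : φ.IsIntegralElem x ↔
      ∃ (d : ℕ) (c : ℕ → A), x ^ d + ∑ j ∈ Finset.range d, φ (c j) * x ^ j = 0 := by
  have := exists_monic_iff φ x (fun _ _ _ => True)
  simp only [implies_true, true_and] at this
  exact this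

theorem isIntegralOverIdeal_iff_rees {R S : Type u} [CommRing R] [CommRing S] [Algebra R S]
    (I : Ideal R) (s : S) : W4stkalgebra1.IsIntegralOverIdeal I s ↔
      ((Polynomial.mapRingHom (algebraMap R S)).comp
        (reesAlgebra I).val.toRingHom).IsIntegralElem (Polynomial.C s * Polynomial.X) := by
  rw [isIntegralOverIdeal_iff, isIntegralElem_iff]
  constructor
  · rintro ⟨d, c, hc, h0⟩
    have hmem : ∀ j, j < d → (monomial (d - j) (c j) : R[X]) ∈ reesAlgebra I := fun j hj =>
      reesAlgebra.monomial_mem.mpr (hc j hj)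
    classical
    refine ⟨d, fun j => if h : j < d then ⟨_, hmem j h⟩ else 0, ?_⟩
    have h1 : ∀ j ∈ Finset.range d, ((mapRingHom (algebraMap R S)).comp
        (reesAlgebra I).val.toRingHom) (if h : j < d then ⟨_, hmem j h⟩ else 0) *
          (C s * X) ^ j = C (algebraMap R S (c j) * s ^ j) * X ^ d := by
      intro j hj
      have hj' := Finset.mem_range.mp hj
      rw [dif_pos hj']
      change (monomial (d - j) (c j)).map (algebraMap R S) * _ = _
      rw [map_monomial, mul_pow, ← C_pow, ← C_mul_X_pow_eq_monomial]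
      have : (X : S[X]) ^ d = X ^ (d - j) * X ^ j := by
        rw [← pow_add]; congr 1; omega
      rw [this, C_mul]
      ring
    rw [Finset.sum_congr rfl h1, ← Finset.sum_mul, mul_pow, ← C_pow, ← add_mul, ← map_sum, ← C_add,
      h0, C_0, zero_mul]
  · rintro ⟨d, c, h0⟩
    refine ⟨d, fun j => (c j : R[X]).coeff (d - j), fun j _ => (c j).2 (d - j), ?_⟩
    have h1 := congrArg (fun q : S[X] => q.coeff d) h0
    simp only [coeff_add, coeff_zero, finsetSum_coeff, mul_pow, ← C_pow] at h1
    rw [coeff_C_mul, coeff_X_pow, if_pos rfl, mul_one] at h1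
    rw [← h1]
    congr 1
    refine Finset.sum_congr rfl (fun j hj => ?_)
    have hj' := Finset.mem_range.mp hj
    change _ = (((c j : R[X]).map (algebraMap R S)) * (C (s ^ j) * X ^ j)).coeff d
    rw [mul_comm (C (s ^ j)), ← mul_assoc, coeff_mul_C]
    conv_rhs => rw [show d = (d - j) + j by omega, coeff_mul_X_pow, coeff_map]

theorem smul {R S : Type u} [CommRing R] [CommRing S] [Algebra R S]
    (I : Ideal R) (s s' : S) (hs : IsIntegral R s) (hs' : W4stkalgebra1.IsIntegralOverIdeal I s') :
    W4stkalgebra1.IsIntegralOverIdeal I (s * s') := by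
  rw [isIntegralOverIdeal_iff_rees] at hs' ⊢
  rw [C_mul, mul_assoc]
  refine RingHom.IsIntegralElem.mul _ ?_ hs'
  -- `C s` is integral over `R`, hence over the Rees algebra
  obtain ⟨p, hp, h0⟩ := hs
  refine ⟨p.map (algebraMap R (reesAlgebra I)), hp.map _, ?_⟩
  rw [eval₂_map]
  have h1 : (((mapRingHom (algebraMap R S)).comp (reesAlgebra I).val.toRingHom).comp
      (algebraMap R (reesAlgebra I))) = (C : S →+* S[X]).comp (algebraMap R S) := by
    ext r : 1
    change ((algebraMap R R[X] r)).map (algebraMap R S) = C (algebraMap R S r)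
    rw [Polynomial.algebraMap_apply, map_C]
    rfl
  rw [h1, ← hom_eval₂, h0, map_zero]

theorem add {R S : Type u} [CommRing R] [CommRing S] [Algebra R S]
    (I : Ideal R) (s s' : S) (hs : W4stkalgebra1.IsIntegralOverIdeal I s)
    (hs' : W4stkalgebra1.IsIntegralOverIdeal I s') :
    W4stkalgebra1.IsIntegralOverIdeal I (s + s') := by
  rw [isIntegralOverIdeal_iff_rees] at hs hs' ⊢
  rw [C_add, add_mul]
  exact RingHom.IsIntegralElem.add _ hs hs'

theorem zero {R S : Type u} [CommRing R] [CommRing S] [Algebra R S] (I : Ideal R) :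
    W4stkalgebra1.IsIntegralOverIdeal I (0 : S) := by
  rw [isIntegralOverIdeal_iff_rees, C_0, zero_mul]
  exact RingHom.isIntegralElem_zero _

/-- The submodule of elements integral over an ideal. -/
def closure {R : Type u} (S : Type u) [CommRing R] [CommRing S] [Algebra R S] (I : Ideal R) :
    Submodule R S where
  carrier := {s | W4stkalgebra1.IsIntegralOverIdeal I s}
  add_mem' := fun {a b} ha hb => add I a b ha hb
  zero_mem' := zero I
  smul_mem' := fun r s hs => by
    rw [Algebra.smul_def]
    exact smul I _ s isIntegral_algebraMap hs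

end K61.IntIdeal
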