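import Mathlib.CategoryTheory.Abelian.Projective.Resolution

/-!
# Lifting maps from complexes of projectives to resolutions

Like `CategoryTheory.ProjectiveResolution.lift`, but the source is only a complex of projectives with an
augmentation, and the target is an arbitrary resolution.
-/

set_option autoImplicit false

noncomputable section

universe v u

open CategoryTheory Category Limits Projective HomologicalComplex ChainComplex

namespace K61.LiftCx

variable {C : Type u} [Category.{v} C] [Abelian C] {N : C} (K : ChainComplex C ℕ)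
  (ε : K ⟶ (ChainComplex.single₀ C).obj N)

lemma exactAt_succ [QuasiIso ε] (n : ℕ) : K.ExactAt (n + 1) := by
  rw [← quasiIsoAt_iff_exactAt' ε (n + 1) (exactAt_succ_single_obj _ _)]
  infer_instance

lemma exact_succ [QuasiIso ε] (n : ℕ) :
    (ShortComplex.mk _ _ (K.d_comp_d (n + 2) (n + 1) n)).Exact :=
  ((HomologicalComplex.exactAt_iff' _ (n + 2) (n + 1) n) (by simp only [prev]; rfl)
    (by simp)).1 (exactAt_succ K ε n)

lemma d_comp_zero : K.d 1 0 ≫ ε.f 0 = 0 := by
  rw [← ε.comm 1 0, single_obj_d, comp_zero]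

set_option backward.isDefEq.respectTransparency.types false in
set_option backward.defeqAttrib.useBackward true in
def isColimitCokernelCofork [QuasiIso ε] :
    IsColimit (CokernelCofork.ofπ (f := K.d 1 0) _ (d_comp_zero K ε)) := by
  refine IsColimit.ofIsoColimit (K.opcyclesIsCokernel 1 0 (by simp)) ?_
  refine Cofork.ext (K.isoHomologyι₀.symm ≪≫ isoOfQuasiIsoAt ε 0 ≪≫
    singleObjHomologySelfIso _ _ _) ?_
  rw [← cancel_mono (singleObjHomologySelfIso (ComplexShape.down ℕ) 0 _).inv,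
    ← cancel_mono (isoHomologyι₀ _).hom]
  dsimp
  simp only [isoHomologyι₀_inv_naturality_assoc, p_opcyclesMap_assoc, single₀_obj_zero, assoc,
    Iso.hom_inv_id, comp_id, isoHomologyι_inv_hom_id, singleObjHomologySelfIso_inv_homologyι,
    singleObjOpcyclesSelfIso_hom, single₀ObjXSelf, Iso.refl_inv, id_comp]

lemma epi_zero [QuasiIso ε] : Epi (ε.f 0) :=
  epi_of_isColimit_cofork (isColimitCokernelCofork K ε)

lemma exact₀ [QuasiIso ε] : (ShortComplex.mk _ _ (d_comp_zero K ε)).Exact :=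
  ShortComplex.exact_of_g_is_cokernel _ (isColimitCokernelCofork K ε)

section lift

variable {K} (P : ChainComplex C ℕ) [∀ n, Projective (P.X n)]

variable [QuasiIso ε]

include ε in
/-- Existence of a lift. -/
theorem exists_lift (φ : P.X 0 ⟶ ((ChainComplex.single₀ C).obj N).X 0) (hφ : P.d 1 0 ≫ φ = 0) :
    ∃ ψ : P ⟶ K, ψ.f 0 ≫ ε.f 0 = φ := by
  have := epi_zero K ε
  let f₀ : P.X 0 ⟶ K.X 0 := Projective.factorThru φ (ε.f 0)
  have hf₀ : f₀ ≫ ε.f 0 = φ := Projective.factorThru_comp φ (ε.f 0)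
  let f₁ : P.X 1 ⟶ K.X 1 := (exact₀ K ε).liftFromProjective (P.d 1 0 ≫ f₀) (by
    dsimp only
    rw [assoc, hf₀, hφ])
  have hf₁ : f₁ ≫ K.d 1 0 = P.d 1 0 ≫ f₀ := (exact₀ K ε).liftFromProjective_comp _ _
  refine ⟨ChainComplex.mkHom P K f₀ f₁ hf₁ fun n ⟨g, g', w⟩ =>
    ⟨(exact_succ K ε n).liftFromProjective (P.d (n + 2) (n + 1) ≫ g') (by
      dsimp only
      rw [assoc, w, ← assoc, P.d_comp_d, zero_comp]),
      (exact_succ K ε n).liftFromProjective_comp _ _⟩, ?_⟩
  rw [ChainComplex.mkHom_f_0, hf₀]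

include ε in
/-- A map which dies in `N` is homotopic to zero. -/
theorem homotopy_zero (f : P ⟶ K) (hf : f.f 0 ≫ ε.f 0 = 0) : Nonempty (Homotopy f 0) := by
  let h₀ : P.X 0 ⟶ K.X 1 := (exact₀ K ε).liftFromProjective (f.f 0) hf
  have hh₀ : h₀ ≫ K.d 1 0 = f.f 0 := (exact₀ K ε).liftFromProjective_comp _ _
  let h₁ : P.X 1 ⟶ K.X 2 := (exact_succ K ε 0).liftFromProjective (f.f 1 - P.d 1 0 ≫ h₀) (by
    dsimp only
    rw [Preadditive.sub_comp, assoc, HomologicalComplex.Hom.comm, hh₀, sub_self])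
  have hh₁ : h₁ ≫ K.d 2 1 = f.f 1 - P.d 1 0 ≫ h₀ :=
    (exact_succ K ε 0).liftFromProjective_comp _ _
  refine ⟨Homotopy.mkInductive f h₀ hh₀.symm h₁ (by rw [hh₁]; abel) fun n ⟨g, g', w⟩ =>
    ⟨(exact_succ K ε (n + 1)).liftFromProjective (f.f (n + 2) - P.d _ _ ≫ g') ?_, ?_⟩⟩
  · dsimp only
    rw [Preadditive.sub_comp, assoc, HomologicalComplex.Hom.comm, w, Preadditive.comp_add,
      ← assoc, P.d_comp_d, zero_comp, zero_add, sub_self]
  · have := (exact_succ K ε (n + 1)).liftFromProjective_comp (f.f (n + 2) - P.d _ _ ≫ g') (by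
      dsimp only
      rw [Preadditive.sub_comp, assoc, HomologicalComplex.Hom.comm, w, Preadditive.comp_add,
        ← assoc, P.d_comp_d, zero_comp, zero_add, sub_self])
    dsimp only at this ⊢
    rw [this]
    abel

end lift

end K61.LiftCx
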