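import Groth.Agent.CalgA.ML4
import Groth.Prelude.Def_CAlgX
import Mathlib.RingTheory.Flat.EquationalCriterion
import Mathlib.LinearAlgebra.DirectSum.TensorProduct
import Mathlib.LinearAlgebra.TensorProduct.DirectLimit
import Mathlib.Algebra.Module.FinitePresentation

/-!
# Mittag-Leffler modules: an API

The definition used in the statements (`CAlg.IsMittagLeffler`) is the product condition. Here:
* domination implies the product condition (`isML_of_dominate`), the converse is `CalgA.ML4.exists_dominating`;
* stability under universally injective maps, direct sums, extensions, quotients by finitely generated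
  submodules, directed colimits along universally injective maps, tensor products;
* base change, restriction of scalars.
-/

set_option autoImplicit false
universe u v w x

open TensorProduct

namespace K61.ML

open Groth.Agent.CalgA.ML1 Groth.Agent.CalgA.ML2 Groth.Agent.CalgA.ML4

/-- Every element of `M ⊗ N` comes from `R^n ⊗ N` for some `R^n → M`. -/
theorem exists_free_lift {R : Type u} [CommRing R] {M : Type v} [AddCommGroup M] [Module R M]
    {N : Type w} [AddCommGroup N] [Module R N] (z : M ⊗[R] N) :
    ∃ (n : ℕ) (f : (Fin n → R) →ₗ[R] M) (y : (Fin n → R) ⊗[R] N), f.rTensor N y = z := by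
  classical
  obtain ⟨n, m, q, rfl⟩ := TensorProduct.exists_sum_tmul_eq z
  exact ⟨n, Fintype.linearCombination R m, ∑ k, Pi.single k 1 ⊗ₜ[R] q k, by simp [map_sum]⟩

/-- The product condition, elementwise. -/
theorem isML_iff {R : Type u} [CommRing R] {M : Type u} [AddCommGroup M] [Module R M] :
    CAlg.IsMittagLeffler R M ↔ ∀ (ι : Type u) (Q : ι → Type u) [∀ i, AddCommGroup (Q i)]
      [∀ i, Module R (Q i)] (z : M ⊗[R] (∀ i, Q i)),
      (∀ i, TensorProduct.piRightHom R R M Q z i = 0) → z = 0 := by
  constructor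
  · intro h ι Q _ _ z hz
    exact (injective_iff_map_eq_zero _).mp (h ι Q) z (funext hz)
  · intro h ι Q _ _
    rw [injective_iff_map_eq_zero]
    intro z hz
    exact h ι Q z (fun i => congrFun hz i)

theorem piRightHom_eq_lTensor_proj {R : Type u} [CommRing R] {M : Type v} [AddCommGroup M]
    [Module R M] {ι : Type w} (Q : ι → Type x) [∀ i, AddCommGroup (Q i)]
    [∀ i, Module R (Q i)] (z : M ⊗[R] (∀ i, Q i)) (i : ι) :
    TensorProduct.piRightHom R R M Q z i = (LinearMap.proj i : (∀ i, Q i) →ₗ[R] Q i).lTensor M z := by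
  induction z with
  | zero => simp
  | tmul a b => rfl
  | add a b ha hb => rw [map_add, map_add, Pi.add_apply, ha, hb]

/-- The product condition, in terms of the projections. -/
theorem isML_iff' {R : Type u} [CommRing R] {M : Type u} [AddCommGroup M] [Module R M] :
    CAlg.IsMittagLeffler R M ↔ ∀ (ι : Type u) (Q : ι → Type u) [∀ i, AddCommGroup (Q i)]
      [∀ i, Module R (Q i)] (z : M ⊗[R] (∀ i, Q i)),
      (∀ i, (LinearMap.proj i : (∀ i, Q i) →ₗ[R] Q i).lTensor M z = 0) → z = 0 := by
  rw [isML_iff]
  simp only [piRightHom_eq_lTensor_proj]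

/-- A finitely presented module is Mittag-Leffler. -/
theorem isML_of_fp {R : Type u} [CommRing R] {M : Type u} [AddCommGroup M] [Module R M]
    [Module.FinitePresentation R M] : CAlg.IsMittagLeffler R M :=
  fun _ Q _ _ => piRightHom_injective_of_fp M Q

theorem isML_of_equiv {R : Type u} [CommRing R] {M N : Type u} [AddCommGroup M] [Module R M]
    [AddCommGroup N] [Module R N] (e : M ≃ₗ[R] N) (h : CAlg.IsMittagLeffler R M) :
    CAlg.IsMittagLeffler R N := by
  rw [isML_iff] at h ⊢
  intro ι Q _ _ z hz
  have := h ι Q (e.symm.toLinearMap.rTensor _ z) (fun i => by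
    rw [piRightHom_rTensor]
    show _ = _
    dsimp only
    rw [hz i, map_zero])
  have h2 : e.toLinearMap.rTensor _ (e.symm.toLinearMap.rTensor _ z) = z := by
    rw [← LinearMap.comp_apply, ← LinearMap.rTensor_comp]
    simp
  rw [← h2, this, map_zero]

/-- A module with dominating maps out of all `R^n → M` is Mittag-Leffler. The element version: for
every `f : R^n → M` there is `g : R^n → Q` with `Q` finitely presented such that `f` and `g` dominate
each other. -/
theorem isML_of_dominate {R : Type u} [CommRing R] {M : Type u} [AddCommGroup M] [Module R M]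
    (h : ∀ (n : ℕ) (f : (Fin n → R) →ₗ[R] M),
      ∃ (Q : Type u) (_ : AddCommGroup Q) (_ : Module R Q) (_ : Module.FinitePresentation R Q)
        (g : (Fin n → R) →ₗ[R] Q),
        (∀ (N : Type u) [AddCommGroup N] [Module R N] (x : (Fin n → R) ⊗[R] N),
          f.rTensor N x = 0 → g.rTensor N x = 0) ∧
        (∀ (N : Type u) [AddCommGroup N] [Module R N] (x : (Fin n → R) ⊗[R] N),
          g.rTensor N x = 0 → f.rTensor N x = 0)) :
    CAlg.IsMittagLeffler R M := by
  rw [isML_iff]
  intro ι Q _ _ z hz
  obtain ⟨n, f, y, rfl⟩ := exists_free_lift z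
  obtain ⟨P, _, _, _, g, h1, h2⟩ := h n f
  apply h2
  apply piRightHom_injective_of_fp P Q
  rw [map_zero, piRightHom_rTensor]
  ext i
  apply h1
  have := hz i
  rw [piRightHom_rTensor] at this
  exact this

/-- Domination for Mittag-Leffler modules, as an equality of kernels. -/
theorem exists_dominate {R : Type u} [CommRing R] {M : Type u} [AddCommGroup M] [Module R M]
    (hM : CAlg.IsMittagLeffler R M) {P : Type u} [AddCommGroup P] [Module R P]
    [Module.FinitePresentation R P] (f : P →ₗ[R] M) :
    ∃ (P' : Type u) (_ : AddCommGroup P') (_ : Module R P') (_ : Module.FinitePresentation R P')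
      (g : P →ₗ[R] P') (h : P' →ₗ[R] M), h ∘ₗ g = f ∧
        ∀ (N : Type u) [AddCommGroup N] [Module R N],
          LinearMap.ker (f.rTensor N) = LinearMap.ker (g.rTensor N) := by
  obtain ⟨P', i1, i2, g, h, h1, h2, h3⟩ := exists_dominating hM f
  refine ⟨P', i1, i2, h1, g, h, h2, fun N _ _ => ?_⟩
  ext x
  simp only [LinearMap.mem_ker]
  refine ⟨h3 N x, fun hx => ?_⟩
  rw [← h2, LinearMap.rTensor_comp, LinearMap.comp_apply, hx, map_zero]

/-- Mittag-Leffler iff all maps from finitely presented modules are dominated (two-sided). -/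
theorem isML_iff_dominate_fp {R : Type u} [CommRing R] {M : Type u} [AddCommGroup M] [Module R M] :
    CAlg.IsMittagLeffler R M ↔
      ∀ (P : Type u) [AddCommGroup P] [Module R P] [Module.FinitePresentation R P] (f : P →ₗ[R] M),
        ∃ (Q : Type u) (_ : AddCommGroup Q) (_ : Module R Q) (_ : Module.FinitePresentation R Q)
          (g : P →ₗ[R] Q), ∀ (N : Type u) [AddCommGroup N] [Module R N],
            LinearMap.ker (f.rTensor N) = LinearMap.ker (g.rTensor N) := by
  constructor
  · intro hM P _ _ _ f
    obtain ⟨P', i1, i2, i3, g, h, -, h4⟩ := exists_dominate hM f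
    exact ⟨P', i1, i2, i3, g, h4⟩
  · intro h
    refine isML_of_dominate (fun n f => ?_)
    -- `Fin n → R` lives in `Type u`
    obtain ⟨Q, i1, i2, i3, g, hg⟩ := h (Fin n → R) f
    refine ⟨Q, i1, i2, i3, g, fun N _ _ x hx => ?_, fun N _ _ x hx => ?_⟩
    · have : x ∈ LinearMap.ker (g.rTensor N) := by rw [← hg N]; exact hx
      exact this
    · have : x ∈ LinearMap.ker (f.rTensor N) := by rw [hg N]; exact hx
      exact this

/-- Mittag-Leffler iff all maps from finite free modules are dominated (two-sided). -/
theorem isML_iff_dominate_free {R : Type u} [CommRing R] {M : Type u} [AddCommGroup M]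
    [Module R M] :
    CAlg.IsMittagLeffler R M ↔
      ∀ (n : ℕ) (f : (Fin n → R) →ₗ[R] M),
        ∃ (Q : Type u) (_ : AddCommGroup Q) (_ : Module R Q) (_ : Module.FinitePresentation R Q)
          (g : (Fin n → R) →ₗ[R] Q), ∀ (N : Type u) [AddCommGroup N] [Module R N],
            LinearMap.ker (f.rTensor N) = LinearMap.ker (g.rTensor N) := by
  constructor
  · intro hM n f
    exact isML_iff_dominate_fp.mp hM _ f
  · intro h
    refine isML_of_dominate (fun n f => ?_)
    obtain ⟨Q, i1, i2, i3, g, hg⟩ := h n f
    refine ⟨Q, i1, i2, i3, g, fun N _ _ x hx => ?_, fun N _ _ x hx => ?_⟩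
    · have : x ∈ LinearMap.ker (g.rTensor N) := by rw [← hg N]; exact hx
      exact this
    · have : x ∈ LinearMap.ker (f.rTensor N) := by rw [hg N]; exact hx
      exact this

/-- A module that maps universally injectively to a Mittag-Leffler module is Mittag-Leffler. -/
theorem isML_of_univInj {R : Type u} [CommRing R] {M N : Type u} [AddCommGroup M] [Module R M]
    [AddCommGroup N] [Module R N] (f : M →ₗ[R] N) (hf : CAlgX.UniversallyInjective R f)
    (hN : CAlg.IsMittagLeffler R N) : CAlg.IsMittagLeffler R M := by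
  rw [isML_iff] at hN ⊢
  intro ι Q _ _ z hz
  apply hf (∀ i, Q i)
  rw [map_zero]
  apply hN ι Q
  intro i
  rw [piRightHom_rTensor]
  show f.rTensor (Q i) _ = 0
  rw [hz i, map_zero]

/-- Extensions (the first map need only be injective after tensoring with all modules). -/
theorem isML_of_extension {R : Type u} [CommRing R] {M₁ M₂ M₃ : Type u}
    [AddCommGroup M₁] [Module R M₁] [AddCommGroup M₂] [Module R M₂] [AddCommGroup M₃] [Module R M₃]
    (f : M₁ →ₗ[R] M₂) (g : M₂ →ₗ[R] M₃) (hf : CAlgX.UniversallyInjective R f)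
    (hg : Function.Surjective g) (hfg : LinearMap.range f = LinearMap.ker g)
    (h₁ : CAlg.IsMittagLeffler R M₁) (h₃ : CAlg.IsMittagLeffler R M₃) :
    CAlg.IsMittagLeffler R M₂ := by
  have hex : Function.Exact f g := by
    rw [LinearMap.exact_iff]; exact hfg.symm
  rw [isML_iff] at h₁ h₃ ⊢
  intro ι Q _ _ z hz
  have h3z : g.rTensor _ z = 0 := by
    apply h₃ ι Q
    intro i
    rw [piRightHom_rTensor]
    show g.rTensor (Q i) _ = 0
    rw [hz i, map_zero]
  obtain ⟨y, rfl⟩ := (rTensor_exact (∀ i, Q i) hex hg z).mp h3z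
  have : y = 0 := by
    apply h₁ ι Q
    intro i
    apply hf (Q i)
    rw [map_zero]
    have := hz i
    rw [piRightHom_rTensor] at this
    exact this
  rw [this, map_zero]

/-- Cokernels of maps from finite modules. -/
theorem isML_of_coker {R : Type u} [CommRing R] {M₁ M₂ M₃ : Type u}
    [AddCommGroup M₁] [Module R M₁] [AddCommGroup M₂] [Module R M₂] [AddCommGroup M₃] [Module R M₃]
    [Module.Finite R M₁] (f : M₁ →ₗ[R] M₂) (g : M₂ →ₗ[R] M₃) (hex : Function.Exact f g)
    (hg : Function.Surjective g) (h₂ : CAlg.IsMittagLeffler R M₂) :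
    CAlg.IsMittagLeffler R M₃ := by
  rw [isML_iff] at h₂ ⊢
  intro ι Q _ _ z hz
  obtain ⟨y, rfl⟩ := LinearMap.rTensor_surjective _ hg z
  have hy : ∀ i, ∃ w : M₁ ⊗[R] Q i, f.rTensor (Q i) w = TensorProduct.piRightHom R R M₂ Q y i := by
    intro i
    have := hz i
    rw [piRightHom_rTensor] at this
    exact (rTensor_exact (Q i) hex hg _).mp this
  choose w hw using hy
  obtain ⟨v, hv⟩ := piRightHom_surjective_of_finite M₁ Q w
  have : y - f.rTensor _ v = 0 := by
    apply h₂ ι Q
    intro i
    rw [map_sub, Pi.sub_apply, piRightHom_rTensor, hv]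
    show _ - f.rTensor (Q i) (w i) = 0
    rw [hw i, sub_self]
  have h0 : g.rTensor (∀ i, Q i) (f.rTensor (∀ i, Q i) v) = 0 := by
    rw [← LinearMap.comp_apply, ← LinearMap.rTensor_comp, hex.linearMap_comp_eq_zero]
    simp
  rw [sub_eq_zero.mp this, h0]

/-- A direct summand of a Mittag-Leffler module is Mittag-Leffler. -/
theorem isML_of_retract {R : Type u} [CommRing R] {M K : Type u} [AddCommGroup M]
    [Module R M] [AddCommGroup K] [Module R K] (i : K →ₗ[R] M) (r : M →ₗ[R] K)
    (h : r ∘ₗ i = LinearMap.id) (hM : CAlg.IsMittagLeffler R M) : CAlg.IsMittagLeffler R K := by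
  refine isML_of_univInj i (fun Q _ _ => ?_) hM
  refine Function.LeftInverse.injective (g := r.rTensor Q) (fun x => ?_)
  rw [← LinearMap.comp_apply, ← LinearMap.rTensor_comp, h]
  simp

end K61.ML
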