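import Groth.Agent.CAlg.K61.ML
import Groth.Agent.CalgA.ML3
import Mathlib.LinearAlgebra.DirectSum.TensorProduct
import Mathlib.LinearAlgebra.TensorProduct.DirectLimit

/-!
# Mittag-Leffler modules: direct sums, directed colimits, tensor products
-/

set_option autoImplicit false
universe u v w x

open TensorProduct

namespace K61.ML2

open Groth.Agent.CalgA.ML1 Groth.Agent.CalgA.ML2 Groth.Agent.CalgA.ML4 K61.ML

/-- Direct sums of Mittag-Leffler modules. -/
theorem isML_directSum {R : Type u} [CommRing R] {ι : Type u} (M : ι → Type u)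
    [∀ i, AddCommGroup (M i)] [∀ i, Module R (M i)] (h : ∀ i, CAlg.IsMittagLeffler R (M i)) :
    CAlg.IsMittagLeffler R (DirectSum ι M) := by
  classical
  rw [isML_iff]
  intro κ Q _ _ z hz
  have key : ∀ i, (DirectSum.component R ι M i).rTensor (∀ k, Q k) z = 0 := by
    intro i
    apply isML_iff.mp (h i) κ Q
    intro k
    rw [piRightHom_rTensor]
    show (DirectSum.component R ι M i).rTensor (Q k) _ = 0
    rw [hz k, map_zero]
  apply (TensorProduct.directSumLeft R R M (∀ k, Q k)).injective
  rw [map_zero]
  refine DFinsupp.ext (fun i => ?_)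
  have : ∀ w : (DirectSum ι M) ⊗[R] (∀ k, Q k),
      TensorProduct.directSumLeft R R M (∀ k, Q k) w i =
        (DirectSum.component R ι M i).rTensor (∀ k, Q k) w := by
    intro w
    induction w with
    | zero => rw [map_zero, map_zero]; rfl
    | tmul a b => rw [TensorProduct.directSumLeft_tmul]; rfl
    | add a b ha hb => rw [map_add, map_add, DirectSum.add_apply, ha, hb]
  exact (this z).trans (key i)

/-- Summands of Mittag-Leffler direct sums. -/
theorem isML_of_directSum {R : Type u} [CommRing R] {ι : Type u} (M : ι → Type u)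
    [∀ i, AddCommGroup (M i)] [∀ i, Module R (M i)]
    (h : CAlg.IsMittagLeffler R (DirectSum ι M)) (i : ι) : CAlg.IsMittagLeffler R (M i) := by
  classical
  refine isML_of_retract (DirectSum.lof R ι M i) (DirectSum.component R ι M i) ?_ h
  ext m
  simp

/-- Tensor products of finitely presented modules are finitely presented. -/
theorem fp_tensorProduct {R : Type u} [CommRing R] (M N : Type u) [AddCommGroup M] [Module R M]
    [AddCommGroup N] [Module R N] [Module.FinitePresentation R M] [Module.FinitePresentation R N] :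
    Module.FinitePresentation R (M ⊗[R] N) := by
  classical
  obtain ⟨n, m, hm⟩ := Module.Finite.exists_fin (R := R) (M := N)
  let f : (Fin n → R) →ₗ[R] N := Fintype.linearCombination R m
  have hf : Function.Surjective f := by
    rw [← LinearMap.range_eq_top, Fintype.range_linearCombination, hm]
  have hK : Module.Finite R (LinearMap.ker f) :=
    Module.Finite.iff_fg.mpr (Module.FinitePresentation.fg_ker f hf)
  have : Module.FinitePresentation R (M ⊗[R] (Fin n → R)) :=
    Module.FinitePresentation.of_equiv (TensorProduct.piScalarRight R R M (Fin n)).symm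
  refine Module.finitePresentation_of_surjective (f.lTensor M) (LinearMap.lTensor_surjective M hf) ?_
  have hex := lTensor_exact M (LinearMap.exact_subtype_ker_map f) hf
  rw [LinearMap.exact_iff.mp hex, ← Submodule.map_top]
  exact Submodule.FG.map _ Module.Finite.fg_top

/-- Tensor products of Mittag-Leffler modules. -/
theorem isML_tensorProduct {R : Type u} [CommRing R] {M N : Type u} [AddCommGroup M] [Module R M]
    [AddCommGroup N] [Module R N] (hM : CAlg.IsMittagLeffler R M) (hN : CAlg.IsMittagLeffler R N) :
    CAlg.IsMittagLeffler R (M ⊗[R] N) := by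
  classical
  rw [isML_iff]
  intro ι Q _ _ z hz
  -- write `z` through `P₁ ⊗ P₂`
  obtain ⟨n, m, q, rfl⟩ := TensorProduct.exists_sum_tmul_eq z
  choose n₁ a b hab using fun k => TensorProduct.exists_sum_tmul_eq (m k)
  let σ := Σ k : Fin n, Fin (n₁ k)
  let f₁ : (σ → R) →ₗ[R] M := Fintype.linearCombination R (fun s : σ => a s.1 s.2)
  let f₂ : (σ → R) →ₗ[R] N := Fintype.linearCombination R (fun s : σ => b s.1 s.2)
  let P := σ → R
  let y : (P ⊗[R] P) ⊗[R] (∀ i, Q i) :=
    ∑ k, (∑ j, (Pi.single (⟨k, j⟩ : σ) (1 : R) : P) ⊗ₜ[R] (Pi.single (⟨k, j⟩ : σ) (1 : R) : P))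
      ⊗ₜ[R] q k
  have hf₁ : ∀ s : σ, f₁ (Pi.single s 1) = a s.1 s.2 := fun s => by simp [f₁]
  have hf₂ : ∀ s : σ, f₂ (Pi.single s 1) = b s.1 s.2 := fun s => by simp [f₂]
  have hy : (TensorProduct.map f₁ f₂).rTensor _ y = ∑ k, m k ⊗ₜ[R] q k := by
    simp only [y, map_sum, LinearMap.rTensor_tmul, TensorProduct.map_tmul, hf₁, hf₂]
    exact Finset.sum_congr rfl (fun k _ => by rw [hab k])
  rw [← hy] at hz ⊢
  obtain ⟨P₁, _, _, _, g₁, h₁, hh₁, hd₁⟩ := exists_dominate hM f₁
  obtain ⟨P₂, _, _, _, g₂, h₂, hh₂, hd₂⟩ := exists_dominate hN f₂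
  have step : ∀ (T : Type u) [AddCommGroup T] [Module R T] (t : (P ⊗[R] P) ⊗[R] T),
      (TensorProduct.map f₁ f₂).rTensor T t = 0 → (TensorProduct.map g₁ g₂).rTensor T t = 0 := by
    intro T _ _ t ht
    -- associativity
    have assoc : ∀ {A B A' B' : Type u} [AddCommGroup A] [Module R A] [AddCommGroup B] [Module R B]
        [AddCommGroup A'] [Module R A'] [AddCommGroup B'] [Module R B'] (α : A →ₗ[R] A')
        (β : B →ₗ[R] B') (t : (A ⊗[R] B) ⊗[R] T),
        TensorProduct.assoc R A' B' T ((TensorProduct.map α β).rTensor T t) =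
          TensorProduct.map α (β.rTensor T) (TensorProduct.assoc R A B T t) := by
      intro A B A' B' _ _ _ _ _ _ _ _ α β t
      have : (TensorProduct.assoc R A' B' T).toLinearMap ∘ₗ (TensorProduct.map α β).rTensor T =
          TensorProduct.map α (β.rTensor T) ∘ₗ (TensorProduct.assoc R A B T).toLinearMap := by
        ext x y t
        simp
      exact LinearMap.congr_fun this t
    have lassoc : ∀ {A B B' : Type u} [AddCommGroup A] [Module R A] [AddCommGroup B] [Module R B]
        [AddCommGroup B'] [Module R B'] (β : B →ₗ[R] B') (s : A ⊗[R] (B ⊗[R] T)),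
        TensorProduct.leftComm R A B' T ((β.rTensor T).lTensor A s) =
          β.rTensor (A ⊗[R] T) (TensorProduct.leftComm R A B T s) := by
      intro A B B' _ _ _ _ _ _ β s
      have : (TensorProduct.leftComm R A B' T).toLinearMap ∘ₗ (β.rTensor T).lTensor A =
          β.rTensor (A ⊗[R] T) ∘ₗ (TensorProduct.leftComm R A B T).toLinearMap := by
        ext x y t
        simp
      exact LinearMap.congr_fun this s
    set s := TensorProduct.assoc R P P T t with hs
    have h0 : TensorProduct.map f₁ (f₂.rTensor T) s = 0 := by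
      rw [hs, ← assoc, ht, map_zero]
    -- first kill along `g₁`
    have h1 : TensorProduct.map g₁ (f₂.rTensor T) s = 0 := by
      have e1 : TensorProduct.map f₁ (f₂.rTensor T) s =
          f₁.rTensor (N ⊗[R] T) ((f₂.rTensor T).lTensor P s) := by
        rw [← LinearMap.comp_apply, LinearMap.rTensor_comp_lTensor]
      have e2 : TensorProduct.map g₁ (f₂.rTensor T) s =
          g₁.rTensor (N ⊗[R] T) ((f₂.rTensor T).lTensor P s) := by
        rw [← LinearMap.comp_apply, LinearMap.rTensor_comp_lTensor]
      rw [e2]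
      rw [e1] at h0
      have : (f₂.rTensor T).lTensor P s ∈ LinearMap.ker (f₁.rTensor (N ⊗[R] T)) := h0
      rw [hd₁] at this
      exact this
    have h2 : TensorProduct.map g₁ (g₂.rTensor T) s = 0 := by
      have e1 : TensorProduct.map g₁ (f₂.rTensor T) s =
          (f₂.rTensor T).lTensor P₁ (g₁.rTensor (P ⊗[R] T) s) := by
        rw [← LinearMap.comp_apply, LinearMap.lTensor_comp_rTensor]
      have e2 : TensorProduct.map g₁ (g₂.rTensor T) s =
          (g₂.rTensor T).lTensor P₁ (g₁.rTensor (P ⊗[R] T) s) := by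
        rw [← LinearMap.comp_apply, LinearMap.lTensor_comp_rTensor]
      rw [e2]
      rw [e1] at h1
      apply (TensorProduct.leftComm R P₁ P₂ T).injective
      rw [map_zero, lassoc]
      have : TensorProduct.leftComm R P₁ P T (g₁.rTensor (P ⊗[R] T) s) ∈
          LinearMap.ker (f₂.rTensor (P₁ ⊗[R] T)) := by
        rw [LinearMap.mem_ker, ← lassoc, h1, map_zero]
      rw [hd₂] at this
      exact this
    apply (TensorProduct.assoc R P₁ P₂ T).injective
    rw [map_zero, assoc, ← hs, h2]
  have hfp : Module.FinitePresentation R (P₁ ⊗[R] P₂) := fp_tensorProduct P₁ P₂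
  have hgy : (TensorProduct.map g₁ g₂).rTensor _ y = 0 := by
    apply piRightHom_injective_of_fp (P₁ ⊗[R] P₂) Q
    rw [map_zero, piRightHom_rTensor]
    ext i
    apply step
    have := hz i
    rw [piRightHom_rTensor] at this
    exact this
  have : TensorProduct.map f₁ f₂ = TensorProduct.map h₁ h₂ ∘ₗ TensorProduct.map g₁ g₂ := by
    rw [← TensorProduct.map_comp, hh₁, hh₂]
  rw [this, LinearMap.rTensor_comp, LinearMap.comp_apply, hgy, map_zero]

/-- The maps into the colimit of a directed system with universally injective transition maps are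
universally injective. -/
theorem univInj_directLimit_of {R : Type u} [CommRing R] {ι : Type u}
    [Preorder ι] [IsDirected ι (· ≤ ·)] [DecidableEq ι] (G : ι → Type u) [∀ i, AddCommGroup (G i)]
    [∀ i, Module R (G i)] (f : ∀ i j, i ≤ j → G i →ₗ[R] G j) [DirectedSystem G fun i j h => f i j h]
    (hf : ∀ i j (h : i ≤ j), CAlgX.UniversallyInjective R (f i j h)) (i : ι) :
    CAlgX.UniversallyInjective R (Module.DirectLimit.of R ι G f i) := by
  intro Q _ _
  rw [injective_iff_map_eq_zero]
  intro x hx
  have : Nonempty ι := ⟨i⟩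
  have h1 : Module.DirectLimit.of R ι (G · ⊗[R] Q) (fun i j h => (f i j h).rTensor Q) i x = 0 := by
    have h2 : TensorProduct.directLimitLeft f Q ((Module.DirectLimit.of R ι G f i).rTensor Q x) =
        Module.DirectLimit.of R ι (G · ⊗[R] Q) (fun i j h => (f i j h).rTensor Q) i x := by
      induction x with
      | zero => simp
      | tmul a b => simp [TensorProduct.directLimitLeft_tmul_of]
      | add a b ha hb =>
        have ha' : ∀ y : G i ⊗[R] Q,
            TensorProduct.directLimitLeft f Q ((Module.DirectLimit.of R ι G f i).rTensor Q y) =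
              Module.DirectLimit.of R ι (G · ⊗[R] Q) (fun i j h => (f i j h).rTensor Q) i y := by
          intro y
          induction y with
          | zero => simp
          | tmul a b => simp [TensorProduct.directLimitLeft_tmul_of]
          | add a b ha hb => rw [map_add, map_add, ha, hb, map_add]
        exact ha' _
    rw [← h2, hx, map_zero]
  obtain ⟨j, hij, hj⟩ := Module.DirectLimit.of.zero_exact h1
  exact hf i j hij Q (by rw [map_zero]; exact hj)

/-- Directed colimits of Mittag-Leffler modules along universally injective maps. -/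
theorem isML_directLimit {R : Type u} [CommRing R] {ι : Type u}
    [Preorder ι] [IsDirected ι (· ≤ ·)] [DecidableEq ι] (G : ι → Type u) [∀ i, AddCommGroup (G i)]
    [∀ i, Module R (G i)] (f : ∀ i j, i ≤ j → G i →ₗ[R] G j) [DirectedSystem G fun i j h => f i j h]
    (hf : ∀ i j (h : i ≤ j), CAlgX.UniversallyInjective R (f i j h))
    (hG : ∀ i, CAlg.IsMittagLeffler R (G i)) :
    CAlg.IsMittagLeffler R (Module.DirectLimit G f) := by
  rw [isML_iff]
  intro κ Q _ _ z hz
  rcases isEmpty_or_nonempty ι with hι | hι
  · have h0 : ∀ x : Module.DirectLimit G f, x = 0 := fun x => Subsingleton.elim _ _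
    obtain ⟨n, m, q, rfl⟩ := TensorProduct.exists_sum_tmul_eq z
    exact Finset.sum_eq_zero (fun k _ => by rw [h0 (m k), zero_tmul])
  -- `z` comes from a stage
  have : ∃ i, ∃ y : G i ⊗[R] (∀ k, Q k), (Module.DirectLimit.of R ι G f i).rTensor _ y = z := by
    obtain ⟨n, m, q, rfl⟩ := TensorProduct.exists_sum_tmul_eq z
    choose a b hab using fun k => Module.DirectLimit.exists_of (m k)
    obtain ⟨i, hi⟩ := Finset.exists_le (Finset.univ.image a)
    have hi' : ∀ k, a k ≤ i := fun k => hi _ (Finset.mem_image_of_mem a (Finset.mem_univ k))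
    refine ⟨i, ∑ k, f (a k) i (hi' k) (b k) ⊗ₜ q k, ?_⟩
    rw [map_sum]
    refine Finset.sum_congr rfl (fun k _ => ?_)
    rw [LinearMap.rTensor_tmul, Module.DirectLimit.of_f, hab]
  obtain ⟨i, y, rfl⟩ := this
  have : y = 0 := by
    apply isML_iff.mp (hG i) κ Q
    intro k
    apply univInj_directLimit_of G f hf i (Q k)
    rw [map_zero]
    have := hz k
    rw [piRightHom_rTensor] at this
    exact this
  rw [this, map_zero]

end K61.ML2
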