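import Groth.Agent.CAlg.K61.ML2
import Mathlib.RingTheory.Flat.Basic
import Mathlib.RingTheory.Flat.EquationalCriterion
import Mathlib.RingTheory.FinitePresentation

/-!
# Mittag-Leffler modules: base change and restriction of scalars
-/

set_option autoImplicit false
universe u v w x

open TensorProduct

namespace K61.ML3

open Groth.Agent.CalgA.ML1 Groth.Agent.CalgA.ML2 Groth.Agent.CalgA.ML4 K61.ML K61.ML2

/-- Base change of Mittag-Leffler modules. -/
theorem isML_baseChange {A A' P : Type u} [CommRing A] [CommRing A'] [Algebra A A']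
    [AddCommGroup P] [Module A P] (h : CAlg.IsMittagLeffler A P) :
    CAlg.IsMittagLeffler A' (A' ⊗[A] P) := by
  intro ι Q _ _
  let _ : ∀ i, Module A (Q i) := fun i => Module.compHom (Q i) (algebraMap A A')
  have hQ : ∀ i, IsScalarTower A A' (Q i) := fun i =>
    IsScalarTower.of_algebraMap_smul (fun _ _ => rfl)
  let θ : ∀ (N : Type u) [AddCommGroup N] [Module A N] [Module A' N] [IsScalarTower A A' N],
      (A' ⊗[A] P) ⊗[A'] N ≃+ P ⊗[A] N := fun N _ _ _ _ =>
    ((TensorProduct.comm A' (A' ⊗[A] P) N).toAddEquiv.trans
      (AlgebraTensorModule.cancelBaseChange A A' A' N P).toAddEquiv).trans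
      (TensorProduct.comm A N P).toAddEquiv
  have hθ : ∀ (N : Type u) [AddCommGroup N] [Module A N] [Module A' N] [IsScalarTower A A' N]
      (a : A') (p : P) (n : N), θ N ((a ⊗ₜ p) ⊗ₜ n) = p ⊗ₜ (a • n) := fun _ _ _ _ _ _ _ _ => rfl
  have key : ∀ x i, TensorProduct.piRightHom A A P Q (θ (∀ i, Q i) x) i =
      θ (Q i) (TensorProduct.piRightHom A' A' (A' ⊗[A] P) Q x i) := by
    intro x i
    induction x using TensorProduct.induction_on with
    | zero => simp
    | add x y hx hy => rw [map_add, map_add, Pi.add_apply, hx, hy, map_add, Pi.add_apply, map_add]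
    | tmul y q =>
      induction y using TensorProduct.induction_on with
      | zero => simp
      | add x y hx hy =>
        rw [TensorProduct.add_tmul, map_add, map_add, Pi.add_apply, hx, hy, map_add, Pi.add_apply,
          map_add]
      | tmul a p =>
        rw [hθ, TensorProduct.piRightHom_tmul, TensorProduct.piRightHom_tmul, hθ]
        rfl
  rw [injective_iff_map_eq_zero]
  intro x hx
  have h1 : TensorProduct.piRightHom A A P Q (θ (∀ i, Q i) x) = 0 := by
    funext i
    rw [key, hx]
    simp
  have h2 : θ (∀ i, Q i) x = 0 := h ι Q (by rw [h1, map_zero])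
  exact (AddEquiv.map_eq_zero_iff _).mp h2

/-- The composite used for restriction of scalars: if `S ⊗ ∏ Qᵢ → ∏ (S ⊗ Qᵢ)` stays injective after
`M ⊗_S -` for an `S`-module `M` which is Mittag-Leffler over `S`, then `M` is Mittag-Leffler over `R`. -/
theorem isML_restrictScalars {R S : Type u} [CommRing R] [CommRing S] [Algebra R S]
    {M : Type u} [AddCommGroup M] [Module S M] [Module R M] [IsScalarTower R S M]
    (hM : CAlg.IsMittagLeffler S M)
    (h : ∀ (ι : Type u) (Q : ι → Type u) [∀ i, AddCommGroup (Q i)] [∀ i, Module R (Q i)],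
      Function.Injective ((TensorProduct.piRightHom R S S Q).lTensor M)) :
    CAlg.IsMittagLeffler R M := by
  rw [isML_iff]
  intro ι Q _ _ z hz
  let θ : ∀ (N : Type u) [AddCommGroup N] [Module R N], M ⊗[S] (S ⊗[R] N) ≃+ M ⊗[R] N :=
    fun N _ _ => (AlgebraTensorModule.cancelBaseChange R S S M N).toAddEquiv
  have hθ : ∀ (N : Type u) [AddCommGroup N] [Module R N] (m : M) (s : S) (n : N),
      θ N (m ⊗ₜ (s ⊗ₜ n)) = (s • m) ⊗ₜ n := fun N _ _ m s n =>
        AlgebraTensorModule.cancelBaseChange_tmul R S S m n s
  have key : ∀ (x : M ⊗[S] (S ⊗[R] (∀ i, Q i))) (i : ι),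
      TensorProduct.piRightHom R R M Q (θ _ x) i =
        θ (Q i) (TensorProduct.piRightHom S S M (fun i => S ⊗[R] Q i)
          ((TensorProduct.piRightHom R S S Q).lTensor M x) i) := by
    intro x i
    induction x using TensorProduct.induction_on with
    | zero => simp
    | add x y hx hy =>
      rw [map_add, map_add, Pi.add_apply, hx, hy, map_add, map_add, Pi.add_apply, map_add]
    | tmul m y =>
      induction y using TensorProduct.induction_on with
      | zero => simp
      | add x y hx hy =>
        rw [TensorProduct.tmul_add, map_add, map_add, Pi.add_apply, hx, hy, map_add, map_add,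
          Pi.add_apply, map_add]
      | tmul s q =>
        rw [hθ, LinearMap.lTensor_tmul, TensorProduct.piRightHom_tmul,
          TensorProduct.piRightHom_tmul, TensorProduct.piRightHom_tmul, hθ]
  obtain ⟨x, rfl⟩ := (θ (∀ i, Q i)).surjective z
  have h1 : (TensorProduct.piRightHom R S S Q).lTensor M x = 0 := by
    apply isML_iff.mp hM ι (fun i => S ⊗[R] Q i)
    intro i
    apply (θ (Q i)).injective
    rw [map_zero, ← key, hz]
  have h2 : x = 0 := by
    apply h ι Q
    rw [h1, map_zero]
  rw [h2, map_zero]

/-- Restriction of scalars for flat Mittag-Leffler modules along Mittag-Leffler algebras. -/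
theorem isML_restrictScalars_of_flat {R S : Type u} [CommRing R] [CommRing S] [Algebra R S]
    {M : Type u} [AddCommGroup M] [Module S M] [Module R M] [IsScalarTower R S M]
    (hS : CAlg.IsMittagLeffler R S) [Module.Flat S M] (hM : CAlg.IsMittagLeffler S M) :
    CAlg.IsMittagLeffler R M := by
  refine isML_restrictScalars hM (fun ι Q _ _ => ?_)
  apply Module.Flat.lTensor_preserves_injective_linearMap
  have h := hS ι Q
  have key : ∀ x, TensorProduct.piRightHom R S S Q x = TensorProduct.piRightHom R R S Q x := by
    intro x
    induction x using TensorProduct.induction_on with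
    | zero => simp
    | add x y hx hy => rw [map_add, map_add, hx, hy]
    | tmul m y => rfl
  intro x y hxy
  apply h
  rw [← key, ← key]
  exact hxy

/-- Restriction of scalars along algebras which are finitely presented modules. -/
theorem isML_restrictScalars_of_fp {R S : Type u} [CommRing R] [CommRing S] [Algebra R S]
    {M : Type u} [AddCommGroup M] [Module S M] [Module R M] [IsScalarTower R S M]
    [Module.FinitePresentation R S] (hM : CAlg.IsMittagLeffler S M) :
    CAlg.IsMittagLeffler R M := by
  refine isML_restrictScalars hM (fun ι Q _ _ => ?_)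
  have key : ∀ x, TensorProduct.piRightHom R S S Q x = TensorProduct.piRightHom R R S Q x := by
    intro x
    induction x using TensorProduct.induction_on with
    | zero => simp
    | add x y hx hy => rw [map_add, map_add, hx, hy]
    | tmul m y => rfl
  have hb : Function.Bijective (TensorProduct.piRightHom R S S Q) := by
    constructor
    · intro x y hxy
      apply piRightHom_injective_of_fp S Q
      rw [← key, ← key]
      exact hxy
    · intro y
      obtain ⟨x, hx⟩ := piRightHom_surjective_of_finite S Q y
      exact ⟨x, (key x).trans hx⟩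
  let e := LinearEquiv.ofBijective _ hb
  exact (e.lTensor M).injective

/-- Modules over the quotient by a finitely generated ideal. -/
theorem isML_iff_quotient {R : Type u} [CommRing R] (I : Ideal R) (hI : I.FG)
    (M : Type u) [AddCommGroup M] [Module (R ⧸ I) M] [Module R M] [IsScalarTower R (R ⧸ I) M] :
    CAlg.IsMittagLeffler R M ↔ CAlg.IsMittagLeffler (R ⧸ I) M := by
  constructor
  · intro h
    have h1 := isML_baseChange (A' := R ⧸ I) h
    -- `M` is a retract of `R/I ⊗ M`
    let r : (R ⧸ I) ⊗[R] M →ₗ[R ⧸ I] M :=
      (TensorProduct.isBaseChange R M (R ⧸ I)).lift (LinearMap.id : M →ₗ[R] M)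
    have hr : ∀ m : M, r (1 ⊗ₜ[R] m) = m := fun m =>
      (TensorProduct.isBaseChange R M (R ⧸ I)).lift_eq (LinearMap.id : M →ₗ[R] M) m
    let i : M →ₗ[R ⧸ I] (R ⧸ I) ⊗[R] M :=
      { toFun := fun m => 1 ⊗ₜ[R] m
        map_add' := fun a b => TensorProduct.tmul_add _ _ _
        map_smul' := fun a m => by
          obtain ⟨a, rfl⟩ := Ideal.Quotient.mk_surjective a
          have h2 : (Ideal.Quotient.mk I a) • m = a • m := by
            rw [← algebraMap_smul (R ⧸ I) a m]
            rfl
          have h3 : (Ideal.Quotient.mk I a : R ⧸ I) = a • (1 : R ⧸ I) := by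
            rw [Algebra.smul_def, mul_one]
            rfl
          show (1 : R ⧸ I) ⊗ₜ[R] ((Ideal.Quotient.mk I a) • m) =
            (Ideal.Quotient.mk I a) • ((1 : R ⧸ I) ⊗ₜ[R] m)
          rw [h2, TensorProduct.tmul_smul, h3, TensorProduct.smul_tmul', smul_assoc, one_smul,
            TensorProduct.smul_tmul'] }
    exact isML_of_retract i r (by ext m; exact hr m) h1
  · intro h
    have : Module.FinitePresentation R (R ⧸ I) :=
      Module.finitePresentation_of_surjective I.mkQ I.mkQ_surjective (by rwa [Submodule.ker_mkQ])
    exact isML_restrictScalars_of_fp h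

end K61.ML3
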